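import Groth.Agent.HLVTLib.Main
import Groth.Agent.LocCohLib.Finiteness
import Groth.Agent.CanonModLib.CM
import Groth.Agent.NormalLib.CompleteLocal

/-!
# Associated primes of the dual of the top local cohomology
-/

set_option autoImplicit false
set_option linter.style.haveILetI false
set_option linter.unusedSectionVars false
set_option maxHeartbeats 800000

universe u

open CategoryTheory IsLocalRing LocCohLib

noncomputable section

namespace TopAssLib

variable {R : Type u} [CommRing R] [IsNoetherianRing R]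

theorem subsingleton_H_top (i : ℕ) (M : Type u) [AddCommGroup M] [Module R M] :
    Subsingleton (LocCoh.H (⊤ : Ideal R) i M) :=
  subsingleton_of_forall_eq 0 fun y => by
    obtain ⟨k, hk⟩ := isPowerTorsion_H (⊤ : Ideal R) i M y
    have := hk 1 (by rw [Ideal.top_pow]; trivial)
    rwa [one_smul] at this

/-- An element killing the module kills its local cohomology. -/
theorem smul_H_eq_zero (I : Ideal R) (i : ℕ) {M : Type u} [AddCommGroup M] [Module R M] {a : R}
    (ha : ∀ x : M, a • x = 0) (y : LocCoh.H I i M) : a • y = 0 := by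
  rw [← Hf_smul_id a i y]
  haveI := (lcDelta I).preservesZero i
  have h0 : ModuleCat.ofHom (a • (LinearMap.id : M →ₗ[R] M)) = 0 := by
    ext x
    exact ha x
  show ((localCohomology I i).map (ModuleCat.ofHom _)).hom y = 0
  rw [h0]
  have : (localCohomology I i).map (0 : ModuleCat.of R M ⟶ ModuleCat.of R M) = 0 :=
    ((lcDelta I).F i).map_zero _ _
  rw [this]
  rfl

variable {I : Ideal R} {n : ℕ} {M N : Type u} [AddCommGroup M] [Module R M] [AddCommGroup N] [Module R N]

/-- The top local cohomology preserves surjections. -/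
theorem Hf_surjective {g : M →ₗ[R] N} (hg : Function.Surjective g) (hM : Module.supportDim R M ≤ n) :
    Function.Surjective (Hf I n g) := fun y => by
  haveI := subsingleton_H_of_supportDim_lt (I := I) (n + 1) (LinearMap.ker g)
    (lt_of_le_of_lt ((Module.supportDim_le_of_injective (LinearMap.ker g).subtype Subtype.val_injective).trans hM)
      (by exact_mod_cast Nat.lt_succ_self n))
  exact ((exact_Hδ (I := I) Subtype.val_injective (LinearMap.exact_subtype_ker_map g) hg n).2 y).1
    (Subsingleton.elim _ _)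

theorem Hf_mkQ_eq_zero_of_le {L L' : Submodule R M} (h : L ≤ L') {y : LocCoh.H I n M}
    (hy : Hf I n L.mkQ y = 0) : Hf I n L'.mkQ y = 0 := by
  rw [← Submodule.factor_comp_mk h, Hf_comp, hy, map_zero]

/-- The top local cohomology is right exact, so commutes with `M ↦ M / JM`. -/
theorem mem_smul_top_of_Hf_mkQ_eq_zero (J : Ideal R) :
    ∀ (M : Type u) [AddCommGroup M] [Module R M], Module.supportDim R M ≤ n → ∀ y : LocCoh.H I n M,
      Hf I n (J • ⊤ : Submodule R M).mkQ y = 0 → y ∈ J • (⊤ : Submodule R (LocCoh.H I n M)) := by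
  have hJ : J.FG := IsNoetherian.noetherian J
  induction J, hJ using Submodule.fg_induction with
  | singleton b =>
    intro M _ _ hM y hy
    let g : M →ₗ[R] M := b • LinearMap.id
    let L : Submodule R M := LinearMap.range g
    have hle : ((Submodule.span R {b} : Ideal R) • ⊤ : Submodule R M) ≤ L := Submodule.smul_le.2 fun a ha x _ => by
      obtain ⟨c, rfl⟩ := Submodule.mem_span_singleton.1 ha
      exact ⟨c • x, by show b • c • x = (c • b) • x; rw [smul_comm, smul_assoc]⟩
    obtain ⟨z, hz⟩ := (exact_Hf Subtype.val_injective (LinearMap.exact_subtype_mkQ L)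
      L.mkQ_surjective n y).1 (Hf_mkQ_eq_zero_of_le hle hy)
    obtain ⟨w, hw⟩ := Hf_surjective (I := I) g.surjective_rangeRestrict hM z
    rw [← hz, ← hw, ← Hf_comp, show L.subtype ∘ₗ g.rangeRestrict = g from LinearMap.ext fun _ => rfl, Hf_smul_id]
    exact Submodule.smul_mem_smul (Submodule.mem_span_singleton_self b) trivial
  | sup J₁ J₂ _ _ h₁ h₂ =>
    intro M _ _ hM y hy
    let q := (J₁ • ⊤ : Submodule R M).mkQ
    have hq : Function.Surjective q := Submodule.mkQ_surjective _
    let N := M ⧸ (J₁ • ⊤ : Submodule R M)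
    have hle : ((J₁ ⊔ J₂) • ⊤ : Submodule R M) ≤
        LinearMap.ker ((J₂ • ⊤ : Submodule R N).mkQ ∘ₗ q) := Submodule.smul_le.2 fun a ha x _ => by
      obtain ⟨a₁, h₁, a₂, h₂, rfl⟩ := Submodule.mem_sup.1 ha
      rw [LinearMap.mem_ker, LinearMap.comp_apply, map_smul, add_smul,
        show a₁ • q x = 0 by
          rw [← map_smul]
          exact (Submodule.Quotient.mk_eq_zero _).2 (Submodule.smul_mem_smul h₁ trivial), zero_add]
      exact (Submodule.Quotient.mk_eq_zero _).2 (Submodule.smul_mem_smul h₂ trivial)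
    have h0 : Hf I n (J₂ • ⊤ : Submodule R N).mkQ (Hf I n q y) = 0 := by
      rw [← Hf_comp, ← Submodule.liftQ_mkQ _ _ hle, Hf_comp, hy, map_zero]
    have h3 : Hf I n q y ∈ (J₂ • ⊤ : Submodule R (LocCoh.H I n M)).map (Hf I n q) := by
      rw [Submodule.map_smul'', Submodule.map_top, LinearMap.range_eq_top.2 (Hf_surjective hq hM)]
      exact h₂ N ((Module.supportDim_le_of_surjective q hq).trans hM) _ h0
    obtain ⟨w, hw, hwy⟩ := h3
    rw [Submodule.sup_smul]
    refine Submodule.mem_sup.2 ⟨y - w, h₁ M hM _ ?_, w, hw, sub_add_cancel y w⟩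
    show Hf I n q (y - w) = 0
    rw [map_sub, hwy, sub_self]

/-- `Supp (M/pM) = V(p)`. -/
theorem supportDim_quotient_prime [Module.Finite R M] {p : Ideal R} (hp : Module.annihilator R M ≤ p) :
    Module.supportDim R (M ⧸ (p • ⊤ : Submodule R M)) = ringKrullDim (R ⧸ p) := by
  rw [Module.supportDim, Module.support_quotient, Module.support_eq_zeroLocus,
    Set.inter_eq_right.2 (PrimeSpectrum.zeroLocus_anti_mono hp), ringKrullDim_quotient]

variable [IsLocalRing R] [IsAdicComplete (maximalIdeal R) R]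

/-- Vanishing on `M/pM` unless `√(I+p) = 𝔪`. -/
theorem subsingleton_H_quotient_prime (I : Ideal R) (p : Ideal R) [p.IsPrime] (M : Type u) [AddCommGroup M]
    [Module R M] (hd : ringKrullDim (R ⧸ p) = n) (h : (I ⊔ p).radical ≠ maximalIdeal R) :
    Subsingleton (LocCoh.H I n (M ⧸ (p • ⊤ : Submodule R M))) := by
  let N := M ⧸ (p • ⊤ : Submodule R M)
  obtain ⟨φ, -⟩ := exists_addEquiv_restrict (R := R) (R' := R ⧸ p) I N n
  refine φ.toEquiv.subsingleton_congr.1 ?_
  have hmap : I.map (algebraMap R (R ⧸ p)) = (I ⊔ p).map (Ideal.Quotient.mk p) := by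
    rw [Ideal.map_sup, Ideal.map_quotient_self, sup_bot_eq]
    rfl
  by_cases htop : I ⊔ p = ⊤
  · rw [hmap, htop, Ideal.map_top]
    exact subsingleton_H_top _ _
  obtain ⟨Q, hQ, hQle, hQm⟩ : ∃ Q : Ideal R, Q.IsPrime ∧ I ⊔ p ≤ Q ∧ Q ≠ maximalIdeal R := by
    by_contra hcon
    push Not at hcon
    refine h (le_antisymm ?_ ?_)
    · exact ((maximalIdeal.isMaximal R).isPrime.radical_le_iff).2 (le_maximalIdeal htop)
    · rw [Ideal.radical_eq_sInf]
      exact le_sInf fun w hw => (hcon w hw.2 hw.1).ge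
  haveI : IsLocalRing (R ⧸ p) := IsLocalRing.of_surjective' _ Ideal.Quotient.mk_surjective
  haveI := NormalLib.isAdicComplete_quotient_local (R := R) p
  refine HLVTLib.subsingleton_H_domain hd _ (lt_of_lt_of_le (HLVTLib.pos_dim_of_ne_maximal hQm) ?_) _ le_rfl
  have hker : I.map (algebraMap R (R ⧸ p)) ≤ RingHom.ker (Ideal.Quotient.factor (le_sup_right.trans hQle)) :=
    Ideal.map_le_iff_le_comap.2 fun x hx => Ideal.Quotient.eq_zero_iff_mem.2 (hQle (le_sup_left (b := p) hx))
  exact ringKrullDim_le_of_surjective (Ideal.Quotient.lift _ _ fun a ha => hker ha)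
    (Ideal.Quotient.lift_surjective_of_surjective _ _ (Ideal.Quotient.factor_surjective _))

/-- Nonvanishing on `M/pM` when `√(I+p) = 𝔪`. -/
theorem nontrivial_H_quotient_prime (I : Ideal R) (p : Ideal R) (M : Type u) [AddCommGroup M] [Module R M]
    [Module.Finite R M] (hp : Module.annihilator R M ≤ p) (hd : ringKrullDim (R ⧸ p) = n)
    (h : (I ⊔ p).radical = maximalIdeal R) :
    Nontrivial (LocCoh.H I n (M ⧸ (p • ⊤ : Submodule R M))) := by
  let N := M ⧸ (p • ⊤ : Submodule R M)
  obtain ⟨φ, -⟩ := exists_addEquiv_restrict (R := R) (R' := R ⧸ p) I N n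
  obtain ⟨ψ, -⟩ := exists_addEquiv_restrict (R := R) (R' := R ⧸ p) (I ⊔ p) N n
  have hmap : (I ⊔ p).map (algebraMap R (R ⧸ p)) = I.map (algebraMap R (R ⧸ p)) := by
    rw [Ideal.map_sup, show p.map (algebraMap R (R ⧸ p)) = ⊥ from Ideal.map_quotient_self p, sup_bot_eq]
  rw [hmap] at ψ
  rw [← φ.toEquiv.nontrivial_congr, ψ.toEquiv.nontrivial_congr, ← not_subsingleton_iff_nontrivial,
    HLVTLib.subsingleton_H_congr_radical (h.trans (Ideal.IsPrime.radical inferInstance).symm),
    not_subsingleton_iff_nontrivial]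
  exact (LocCohLib.nonvanishing n N ((supportDim_quotient_prime hp).trans hd)).1

theorem eq_of_le_of_dim {p P : Ideal R} [p.IsPrime] [P.IsPrime] (h : p ≤ P) (hp : ringKrullDim (R ⧸ p) = n)
    (hP : ringKrullDim (R ⧸ P) = n) : p = P := by
  refine h.antisymm fun x hx => Ideal.Quotient.eq_zero_iff_mem.1 ?_
  have hker : RingHom.ker (Ideal.Quotient.mk p) ≤ P := by rw [Ideal.mk_ker]; exact h
  haveI := Ideal.map_isPrime_of_surjective Ideal.Quotient.mk_surjective hker
  have hmin := HLVTLib.mem_minimalPrimes_of_dim hp.le (P.map (Ideal.Quotient.mk p))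
    (hP.ge.trans (le_of_eq (ringKrullDim_eq_of_ringEquiv (DoubleQuot.quotQuotEquivQuotOfLE h).symm)))
  rw [IsDomain.minimalPrimes_eq_singleton_bot, Set.mem_singleton_iff] at hmin
  have := Ideal.mem_map_of_mem (Ideal.Quotient.mk p) hx
  rwa [hmin, Ideal.mem_bot] at this

variable {E : Type u} [AddCommGroup E] [Module R E] {f : ResidueField R →ₗ[R] E}

theorem props_of_mem (I : Ideal R) [Module.Finite R M] (hn : Module.supportDim R M = n) {p : Ideal R}
    (hp : p ∈ associatedPrimes R (LocCoh.H I n M →ₗ[R] E)) :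
    p.IsPrime ∧ Module.annihilator R M ≤ p ∧ ringKrullDim (R ⧸ p) = n ∧ (I ⊔ p).radical = maximalIdeal R := by
  obtain ⟨hpp, l, hl⟩ := isAssociatedPrime_iff.1 hp
  have hl0 : l ≠ 0 := fun h0 => hpp.ne_top ((Ideal.eq_top_iff_one _).2 (by
    rw [hl, Submodule.mem_colon_singleton, h0, smul_zero]; exact zero_mem _))
  have hmem : ∀ a ∈ p, a • l = 0 := fun a ha => by
    rw [hl, Submodule.mem_colon_singleton, Submodule.mem_bot] at ha
    exact ha
  have hann : Module.annihilator R M ≤ p := fun a ha => by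
    rw [hl, Submodule.mem_colon_singleton, Submodule.mem_bot]
    refine LinearMap.ext fun y => ?_
    rw [LinearMap.smul_apply, ← map_smul, smul_H_eq_zero I n (Module.mem_annihilator.1 ha), map_zero]
    rfl
  have hne : ¬ Subsingleton (LocCoh.H I n (M ⧸ (p • ⊤ : Submodule R M))) := fun hs => hl0 <| LinearMap.ext fun y => by
    have hy := mem_smul_top_of_Hf_mkQ_eq_zero p M hn.le y (Subsingleton.elim _ _)
    refine Submodule.smul_induction_on hy (fun a ha x _ => ?_) (fun a b ha hb => ?_)
    · rw [map_smul]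
      exact LinearMap.congr_fun (hmem a ha) x
    · rw [map_add, ha, hb]
      simp
  have hdim : ringKrullDim (R ⧸ p) = n := by
    have hle := (supportDim_quotient_prime (M := M) hann).symm.le.trans
      ((Module.supportDim_le_of_surjective _ (Submodule.mkQ_surjective _)).trans hn.le)
    refine hle.eq_or_lt.resolve_right fun hlt => hne ?_
    exact subsingleton_H_of_supportDim_lt n _ ((supportDim_quotient_prime hann).trans_lt hlt)
  exact ⟨hpp, hann, hdim, by_contra fun h => hne (subsingleton_H_quotient_prime I p M hdim h)⟩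

theorem associatedPrimes_dual (hf : InjHull.IsInjectiveHull f) (I : Ideal R) [Module.Finite R M]
    (hn : Module.supportDim R M = n) :
    associatedPrimes R (LocCoh.H I n M →ₗ[R] E) =
      {p : Ideal R | p.IsPrime ∧ Module.annihilator R M ≤ p ∧ ringKrullDim (R ⧸ p) = n ∧
        (I ⊔ p).radical = maximalIdeal R} := by
  ext p
  refine ⟨props_of_mem I hn, fun ⟨hpp, hann, hdim, hrad⟩ => ?_⟩
  haveI := hpp
  haveI := nontrivial_H_quotient_prime I p M hann hdim hrad
  obtain ⟨μ, hμ⟩ : ∃ μ : LocCoh.H I n (M ⧸ (p • ⊤ : Submodule R M)) →ₗ[R] E, μ ≠ 0 := by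
    by_contra hcon
    push Not at hcon
    haveI : Subsingleton (LocCoh.H I n (M ⧸ (p • ⊤ : Submodule R M)) →ₗ[R] E) := subsingleton_of_forall_eq 0 hcon
    exact not_subsingleton _ (CanonModLib.subsingleton_of_dual (Q := LocCoh.H I n (M ⧸ (p • ⊤ : Submodule R M))) hf)
  let q := Hf I n (p • ⊤ : Submodule R M).mkQ
  have hq : Function.Surjective q := Hf_surjective (Submodule.mkQ_surjective _) hn.le
  have hl : μ ∘ₗ q ≠ 0 := fun h0 => hμ (LinearMap.ext fun z => by
    obtain ⟨y, rfl⟩ := hq z
    exact LinearMap.congr_fun h0 y)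
  obtain ⟨P, hP, hle⟩ := exists_le_isAssociatedPrime_of_isNoetherianRing R _ hl
  have hpP : p ≤ P := fun a ha => hle (by
    rw [Submodule.mem_colon_singleton, Submodule.mem_bot]
    refine LinearMap.ext fun y => ?_
    show a • μ (q y) = 0
    rw [← map_smul, smul_H_eq_zero I n (fun x => ?_), map_zero]
    obtain ⟨x, rfl⟩ := Submodule.mkQ_surjective _ x
    exact (Submodule.Quotient.mk_eq_zero _).2 (Submodule.smul_mem_smul ha trivial))
  obtain ⟨hPp, -, hPd, -⟩ := props_of_mem I hn hP
  haveI := hPp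
  rw [eq_of_le_of_dim hpP hdim hPd]
  exact hP

end TopAssLib
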