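import Groth.Agent.TopAssLib.Basic
import Groth.Agent.HLVTLib.Mono
import Groth.Agent.InjHullLib.Socle
import Groth.Agent.CanonModLib.Ext
import Groth.Agent.CatLib.Completion
import Mathlib.RingTheory.FiniteLength

/-!
# Cofiniteness of the top local cohomology
-/

set_option autoImplicit false
set_option linter.style.haveILetI false
set_option linter.unusedSectionVars false
set_option maxHeartbeats 800000

universe u

open CategoryTheory IsLocalRing LocCohLib Opposite
open scoped TensorProduct

noncomputable section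

namespace TopAssLib

section Surj

variable {R : Type u} [CommRing R] [IsNoetherianRing R]

/-- Enlarging the support inside the radical is surjective in the top degree. -/
theorem exists_surjective_of_dim {d i : ℕ} (hd : ringKrullDim R ≤ d) (hi : d ≤ i) {I I' : Ideal R} (hle : I ≤ I')
    (hJ : I' ≤ (⊥ : Ideal R).jacobson) (M : Type u) [AddCommGroup M] [Module R M] :
    ∃ π : LocCoh.H I' i M →ₗ[R] LocCoh.H I i M, Function.Surjective π := by
  suffices ∀ J : Ideal R, J.FG → J ≤ (⊥ : Ideal R).jacobson → ∀ K : Ideal R,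
      ∃ π : LocCoh.H (K ⊔ J) i M →ₗ[R] LocCoh.H K i M, Function.Surjective π by
    have := this I' (IsNoetherian.noetherian I') hJ I
    rwa [sup_eq_right.2 hle] at this
  intro J hJfg
  induction J, hJfg using Submodule.fg_induction with
  | singleton b =>
    intro hb K
    haveI := HLVTLib.subsingleton_H_away hd hi (hb (Submodule.mem_span_singleton_self b)) K M
    exact ⟨((Dual2.HmapOfLE (show K ≤ K ⊔ Ideal.span {b} from le_sup_left) i).app (ModuleCat.of R M)).hom,
      fun x => ((exact_HmapOfLE_loc (b := b) rfl le_sup_left i M) x).1 (Subsingleton.elim _ _)⟩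
  | sup J₁ J₂ _ _ h₁ h₂ =>
    intro hb K
    obtain ⟨π₁, hπ₁⟩ := h₁ (le_sup_left.trans hb) K
    obtain ⟨π₂, hπ₂⟩ := h₂ (le_sup_right.trans hb) (K ⊔ J₁)
    rw [← sup_assoc]
    exact ⟨π₁ ∘ₗ π₂, hπ₁.comp hπ₂⟩

variable [IsLocalRing R]

theorem exists_surjective_of_supportDim {I : Ideal R} (hI : I ≤ maximalIdeal R) (M : Type u) [AddCommGroup M]
    [Module R M] [Module.Finite R M] (n : ℕ) (hn : Module.supportDim R M = n) :
    ∃ π : LocCoh.H (maximalIdeal R) n M →ₗ[R] LocCoh.H I n M, Function.Surjective π := by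
  let a := Module.annihilator R M
  have hdim : ringKrullDim (R ⧸ a) = n := (Module.supportDim_eq_ringKrullDim_quotient_annihilator (R := R) (M := M)).symm.trans hn
  haveI : Nontrivial (R ⧸ a) := by
    by_contra h
    haveI := not_nontrivial_iff_subsingleton.1 h
    rw [ringKrullDim_eq_bot_of_subsingleton] at hdim
    exact WithBot.bot_ne_coe hdim
  haveI : IsLocalRing (R ⧸ a) := IsLocalRing.of_surjective' _ Ideal.Quotient.mk_surjective
  letI : Module (R ⧸ a) M := (Module.isTorsionBySet_annihilator R M).module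
  haveI : IsScalarTower R (R ⧸ a) M := (Module.isTorsionBySet_annihilator R M).isScalarTower
  have hm : (maximalIdeal R).map (algebraMap R (R ⧸ a)) ≤ maximalIdeal (R ⧸ a) :=
    Ideal.map_le_iff_le_comap.2 (le_of_eq (IsLocalRing.eq_maximalIdeal
      (Ideal.comap_isMaximal_of_surjective _ Ideal.Quotient.mk_surjective)).symm)
  obtain ⟨π, hπ⟩ := exists_surjective_of_dim hdim.le le_rfl (Ideal.map_mono hI)
    (by rw [IsLocalRing.jacobson_eq_maximalIdeal ⊥ bot_ne_top]; exact hm) M
  obtain ⟨φ, hφ⟩ := exists_addEquiv_restrict (R := R) (R' := R ⧸ a) I M n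
  obtain ⟨ψ, hψ⟩ := exists_addEquiv_restrict (R := R) (R' := R ⧸ a) (maximalIdeal R) M n
  refine ⟨{ toFun := fun x => φ (π (ψ.symm x))
            map_add' := fun x y => by rw [map_add, map_add, map_add]
            map_smul' := fun r x => ?_ }, φ.surjective.comp (hπ.comp ψ.symm.surjective)⟩
  have h1 : ψ.symm (r • x) = algebraMap R (R ⧸ a) r • ψ.symm x :=
    ψ.injective (by rw [AddEquiv.apply_symm_apply, hψ, AddEquiv.apply_symm_apply])
  show φ (π (ψ.symm (r • x))) = r • φ (π (ψ.symm x))
  rw [h1, map_smul, hφ]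

theorem facts_H (I : Ideal R) (M : Type u) [AddCommGroup M] [Module R M] [Module.Finite R M] (n : ℕ)
    (hn : Module.supportDim R M = n) :
    IsArtinian R (LocCoh.H I n M) ∧ LocCoh.IsPowerTorsion (maximalIdeal R) (LocCoh.H I n M) := by
  by_cases hI : I = ⊤
  · subst hI
    haveI := subsingleton_H_top (R := R) n M
    exact ⟨inferInstance, fun y => ⟨0, fun a _ => Subsingleton.elim _ _⟩⟩
  obtain ⟨π, hπ⟩ := exists_surjective_of_supportDim (le_maximalIdeal hI) M n hn
  haveI := LocCohLib.isArtinian_H (R := R) n M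
  refine ⟨isArtinian_of_surjective _ π hπ, fun y => ?_⟩
  obtain ⟨x, rfl⟩ := hπ y
  obtain ⟨k, hk⟩ := isPowerTorsion_H (maximalIdeal R) n M x
  exact ⟨k, fun a ha => by rw [← map_smul, hk a ha, map_zero]⟩

end Surj

section Complete

variable {C : Type u} [CommRing C] [IsNoetherianRing C] [IsLocalRing C] [IsAdicComplete (maximalIdeal C) C]

/-- The annihilator of the top local cohomology is primary to the maximal ideal modulo `I`. -/
theorem exists_pow_le_sup_annihilator (I : Ideal C) (n : ℕ) (N : Type u) [AddCommGroup N] [Module C N]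
    [Module.Finite C N] (hN : Module.supportDim C N ≤ n) :
    ∃ k : ℕ, maximalIdeal C ^ k ≤ I ⊔ Module.annihilator C (LocCoh.H I n N) := by
  refine Ideal.exists_pow_le_of_le_radical_of_fg ?_ (IsNoetherian.noetherian _)
  suffices ∃ A : Ideal C, A ≤ Module.annihilator C (LocCoh.H I n N) ∧ maximalIdeal C ≤ (I ⊔ A).radical by
    obtain ⟨A, hA, h⟩ := this
    exact h.trans (Ideal.radical_mono (sup_le_sup_left hA I))
  revert hN
  refine IsNoetherianRing.induction_on_isQuotientEquivQuotientPrime C (M := N) inferInstance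
    (motive := fun N _ _ _ => Module.supportDim C N ≤ n →
      ∃ A : Ideal C, A ≤ Module.annihilator C (LocCoh.H I n N) ∧ maximalIdeal C ≤ (I ⊔ A).radical) ?_ ?_ ?_
  · intro V _ _ _ _ _
    haveI := subsingleton_H_of_subsingleton (I := I) V n
    exact ⟨⊤, fun a _ => Module.mem_annihilator.2 fun x => Subsingleton.elim _ _,
      by rw [sup_top_eq, Ideal.radical_top]; exact le_top⟩
  · intro V _ _ _ p e hV
    haveI := p.isPrime
    by_cases hs : Subsingleton (LocCoh.H I n (C ⧸ p.asIdeal))
    · haveI := (subsingleton_H_congr (I := I) e n).2 hs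
      exact ⟨⊤, fun a _ => Module.mem_annihilator.2 fun x => Subsingleton.elim _ _,
        by rw [sup_top_eq, Ideal.radical_top]; exact le_top⟩
    · refine ⟨p.asIdeal, fun a ha => Module.mem_annihilator.2 fun x => smul_H_eq_zero I n (fun v => ?_) x, ?_⟩
      · apply e.injective
        rw [map_smul, map_zero]
        obtain ⟨c, hc⟩ := Ideal.Quotient.mk_surjective (e v)
        rw [← hc, Algebra.smul_def, Ideal.Quotient.algebraMap_eq, ← map_mul]
        exact Ideal.Quotient.eq_zero_iff_mem.2 (Ideal.mul_mem_right _ _ ha)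
      · rcases ((Module.supportDim_eq_of_equiv e).symm.trans_le hV).eq_or_lt with he | hlt
        · rw [Module.supportDim_quotient_eq_ringKrullDim] at he
          refine (by_contra fun h => hs ?_ : (I ⊔ p.asIdeal).radical = maximalIdeal C).ge
          exact (subsingleton_H_congr (I := I) (Submodule.quotEquivOfEq (p.asIdeal • ⊤ : Submodule C C) p.asIdeal
            (Ideal.mul_top _)) n).1 (subsingleton_H_quotient_prime I p.asIdeal C he h)
        · exact absurd (subsingleton_H_of_supportDim_lt n _ hlt) hs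
  · intro N₁ _ _ _ N₂ _ _ _ N₃ _ _ _ f g hf hg hfg h₁ h₃ hV
    obtain ⟨A₁, hA₁, hr₁⟩ := h₁ ((Module.supportDim_le_of_injective f hf).trans hV)
    obtain ⟨A₃, hA₃, hr₃⟩ := h₃ ((Module.supportDim_le_of_surjective g hg).trans hV)
    refine ⟨A₁ * A₃, (Ideal.mul_mono hA₁ hA₃).trans (annihilator_mul_le (exact_Hf hf hfg hg n)), ?_⟩
    refine (le_inf hr₁ hr₃).trans ((Ideal.radical_mul _ _).ge.trans (Ideal.radical_mono ?_))
    rw [Ideal.sup_mul]
    refine sup_le (Ideal.mul_le_left.trans le_sup_left) ?_
    rw [Ideal.mul_sup]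
    exact sup_le (Ideal.mul_le_right.trans le_sup_left) le_sup_right

end Complete

section Main

variable {R : Type u} [CommRing R]

/-- An element killing the resolved module is null-homotopic on the resolution. -/
theorem exists_homotopy {Q : ModuleCat.{u} R} (P : ProjectiveResolution Q) {b : R} (hb : ∀ q : Q, b • q = 0) :
    ∀ j : ℕ, ∃ s : P.complex.X j →ₗ[R] P.complex.X (j + 1),
      ∀ x ∈ CanonModLib.syz P j, CanonModLib.dLin P j (s x) = b • x := by
  have lift : ∀ (j : ℕ) (φ : P.complex.X j →ₗ[R] P.complex.X j),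
      (∀ x, φ x ∈ CanonModLib.syz P j) → ∃ s : P.complex.X j →ₗ[R] P.complex.X (j + 1),
        ∀ x, CanonModLib.dLin P j (s x) = φ x := fun j φ hφ => by
    haveI : Module.Projective R (P.complex.X j) :=
      haveI := P.projective j
      (IsProjective.iff_projective (R := R) (P.complex.X j)).2 inferInstance
    obtain ⟨s, hs⟩ := Module.projective_lifting_property (CanonModLib.syzProj P j) (φ.codRestrict _ hφ)
      (LinearMap.surjective_rangeRestrict _)
    exact ⟨s, fun x => congrArg Subtype.val (LinearMap.congr_fun hs x)⟩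
  intro j
  induction j with
  | zero =>
    obtain ⟨s, hs⟩ := lift 0 (b • LinearMap.id) fun x => ((CanonModLib.aug_exact P) (b • x)).1 (by
      rw [map_smul]
      exact hb _)
    exact ⟨s, fun x _ => hs x⟩
  | succ j ih =>
    obtain ⟨s, hs⟩ := ih
    obtain ⟨t, ht⟩ := lift (j + 1) (b • LinearMap.id - s ∘ₗ CanonModLib.dLin P j) fun x =>
      ((CanonModLib.dLin_exact P j) _).1 (by
        rw [LinearMap.sub_apply, map_sub, LinearMap.comp_apply, hs _ ⟨x, rfl⟩, LinearMap.smul_apply, map_smul]
        exact sub_self _)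
    refine ⟨t, fun x hx => ?_⟩
    obtain ⟨y, rfl⟩ := hx
    rw [ht, LinearMap.sub_apply, LinearMap.comp_apply, (CanonModLib.dLin_exact P j).apply_apply_eq_zero, map_zero,
      sub_zero]
    rfl

variable [IsNoetherianRing R] [IsLocalRing R]

theorem isFiniteLength_of_artinian (V : Type u) [AddCommGroup V] [Module R V] [IsArtinian R V] {k : ℕ}
    (hk : ∀ a ∈ maximalIdeal R ^ k, ∀ v : V, a • v = 0) : IsFiniteLength R V := by
  refine isFiniteLength_iff_isNoetherian_isArtinian.2 ⟨?_, inferInstance⟩
  induction k generalizing V with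
  | zero =>
    haveI : Subsingleton V := subsingleton_of_forall_eq 0 fun v => by
      have := hk 1 (by rw [pow_zero, Ideal.one_eq_top]; trivial) v
      rwa [one_smul] at this
    infer_instance
  | succ k ih =>
    let W : Submodule R V := maximalIdeal R • ⊤
    haveI : IsNoetherian R W := ih W fun a ha w => Subtype.ext (by
      refine Submodule.smul_induction_on w.2 (p := fun z => a • z = 0) (fun c hc z _ => ?_) fun x y hx hy => ?_
      · rw [smul_smul]
        exact hk _ (by rw [pow_succ]; exact Ideal.mul_mem_mul ha hc) z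
      · rw [smul_add, hx, hy, add_zero])
    haveI : IsNoetherian R (V ⧸ W) := by
      haveI : IsArtinian (R ⧸ maximalIdeal R) (V ⧸ W) :=
        isArtinian_of_tower R inferInstance
      letI := Ideal.Quotient.field (maximalIdeal R)
      haveI : Module.Finite (R ⧸ maximalIdeal R) (V ⧸ W) := ((IsSemisimpleModule.finite_tfae (R := R ⧸ maximalIdeal R) (M := V ⧸ W)).out 2 0).1 (inferInstance : IsArtinian (R ⧸ maximalIdeal R) (V ⧸ W))
      haveI : Module.Finite R (V ⧸ W) := Module.Finite.trans (R ⧸ maximalIdeal R) _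
      exact isNoetherian_of_isNoetherianRing_of_finite R _
    exact isNoetherian_of_range_eq_ker W.subtype W.mkQ (LinearMap.exact_subtype_mkQ W).linearMap_ker_eq.symm

theorem isArtinian_linearMap (V H : Type u) [AddCommGroup V] [Module R V] [Module.Finite R V] [AddCommGroup H]
    [Module R H] [IsArtinian R H] : IsArtinian R (V →ₗ[R] H) := by
  obtain ⟨r, φ, hφ⟩ := Module.Finite.exists_fin' R V
  haveI : IsArtinian R (Fin r → H) := inferInstance
  refine isArtinian_of_injective
    (LinearMap.pi fun j : Fin r => LinearMap.applyₗ (φ (Pi.single j 1))) fun g g' h => ?_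
  refine (LinearMap.cancel_right hφ).1 (LinearMap.pi_ext' fun j => LinearMap.ext_ring ?_)
  exact congrFun h j

/-- The top local cohomology is cofinite. -/
theorem isFiniteLength_ext (I : Ideal R) (M : Type u) [AddCommGroup M] [Module R M] [Module.Finite R M] (n : ℕ)
    (hn : Module.supportDim R M = n) (i : ℕ) :
    IsFiniteLength R (((Ext R (ModuleCat.{u} R) i).obj (op (ModuleCat.of R (R ⧸ I)))).obj
      (ModuleCat.of R (LocCoh.H I n M))) := by
  let H := LocCoh.H I n M
  obtain ⟨hart, htor⟩ := facts_H I M n hn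
  haveI : IsArtinian R H := hart
  let C := AdicCompletion (maximalIdeal R) R
  haveI : IsNoetherianRing C := CatLib.isNoetherianRing_cpl R
  let N := C ⊗[R] M
  let Φ := InjHullLib.completionHom (m := maximalIdeal R) htor
  have hN : Module.supportDim C N ≤ n := by
    let a := Module.annihilator R M
    have hdim : ringKrullDim (R ⧸ a) = n :=
      (Module.supportDim_eq_ringKrullDim_quotient_annihilator (R := R) (M := M)).symm.trans hn
    haveI : Nontrivial (R ⧸ a) := by
      by_contra h
      haveI := not_nontrivial_iff_subsingleton.1 h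
      rw [ringKrullDim_eq_bot_of_subsingleton] at hdim
      exact WithBot.bot_ne_coe hdim
    haveI : IsLocalRing (R ⧸ a) := IsLocalRing.of_surjective' _ Ideal.Quotient.mk_surjective
    obtain ⟨e⟩ := CatLib.exists_cpl_quotient_equiv (A := R) (R ⧸ a) Ideal.Quotient.mk_surjective
    have h1 : ringKrullDim (C ⧸ a.map (algebraMap R C)) = n := by
      rw [← hdim, ← CatLib.ringKrullDim_cpl (R ⧸ a), ringKrullDim_eq_of_ringEquiv e,
        show RingHom.ker (algebraMap R (R ⧸ a)) = a from Ideal.mk_ker]
    have hle : a.map (algebraMap R C) ≤ Module.annihilator C N := Ideal.map_le_iff_le_comap.2 fun r hr => by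
      refine Module.mem_annihilator.2 fun z => (algebraMap_smul C r z).trans ?_
      induction z using TensorProduct.induction_on with
      | zero => rw [smul_zero]
      | tmul c x => rw [← TensorProduct.tmul_smul, Module.mem_annihilator.1 hr x, TensorProduct.tmul_zero]
      | add z w hz hw => rw [smul_add, hz, hw, add_zero]
    rw [Module.supportDim_eq_ringKrullDim_quotient_annihilator, ← h1]
    exact ringKrullDim_le_of_surjective (Ideal.Quotient.factor hle) (Ideal.Quotient.factor_surjective hle)
  obtain ⟨k, hk⟩ := exists_pow_le_sup_annihilator (I.map (algebraMap R C)) n N hN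
  have hΦann : ∀ c ∈ Module.annihilator C (LocCoh.H (I.map (algebraMap R C)) n N), Φ c = 0 := fun c hc => by
    refine LinearMap.ext fun x => ?_
    have h0 : c ⊗ₜ[R] x = (0 : C ⊗[R] H) := (tensLcEquiv (R' := C) I M n).injective (by
      rw [show c ⊗ₜ[R] x = c • ((1 : C) ⊗ₜ[R] x) by rw [TensorProduct.smul_tmul', smul_eq_mul, mul_one],
        map_smul, Module.mem_annihilator.1 hc, map_zero])
    show Φ.toLinearMap c x = 0
    rw [← TensorProduct.lift.tmul (f' := Φ.toLinearMap) c x, h0, map_zero]
  /- every element of `𝔪^k` is a combination of `I` and endomorphisms, on `H` -/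
  have key : ∀ a ∈ maximalIdeal R ^ k, ∃ c ∈ I.map (algebraMap R C), Φ c = a • LinearMap.id := fun a ha => by
    have h1 : algebraMap R C a ∈ maximalIdeal C ^ k := by
      rw [AdicCompletion.maximalIdeal_eq_map, ← Ideal.map_pow]
      exact Ideal.mem_map_of_mem _ ha
    obtain ⟨c, hc, e, he, hce⟩ := Submodule.mem_sup.1 (hk h1)
    refine ⟨c, hc, ?_⟩
    have h2 := congrArg Φ hce
    rw [map_add, hΦann e he, add_zero, AlgHom.commutes] at h2
    exact h2
  /- multiplication by `b ∈ I` after any endomorphism -/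
  have gen : ∀ (V : Type u) [AddCommGroup V] [Module R V] (T : Submodule R (V →ₗ[R] H)) (g : V →ₗ[R] H),
      (∀ b ∈ I, ∀ φ : H →ₗ[R] H, b • (φ ∘ₗ g) ∈ T) → ∀ a ∈ maximalIdeal R ^ k, a • g ∈ T := by
    intro V _ _ T g hT a ha
    obtain ⟨c, hc, hca⟩ := key a ha
    suffices ∀ φ : H →ₗ[R] H, φ ∘ₗ (Φ c) ∘ₗ g ∈ T by
      have := this LinearMap.id
      rwa [hca, LinearMap.id_comp, LinearMap.smul_comp, LinearMap.id_comp] at this
    clear hca
    refine Submodule.span_induction (p := fun c _ => ∀ φ : H →ₗ[R] H, φ ∘ₗ (Φ c) ∘ₗ g ∈ T) ?_ ?_ ?_ ?_ hc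
    · rintro _ ⟨b, hb, rfl⟩ φ
      convert hT b hb φ using 1
      refine LinearMap.ext fun v => ?_
      show φ (Φ (algebraMap R C b) (g v)) = b • φ (g v)
      rw [AlgHom.commutes]
      exact map_smul φ b _
    · intro φ
      rw [map_zero, LinearMap.zero_comp, LinearMap.comp_zero]
      exact zero_mem _
    · intro x y _ _ hx hy φ
      rw [map_add, LinearMap.add_comp, LinearMap.comp_add]
      exact add_mem (hx φ) (hy φ)
    · intro z x _ hx φ
      rw [smul_eq_mul, map_mul, Module.End.mul_eq_comp, ← LinearMap.comp_assoc, ← LinearMap.comp_assoc]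
      exact hx (φ ∘ₗ Φ z)
  obtain ⟨P, hP⟩ := RichLib.FreeRes.exists_resolution (B := R) (fun N _ _ => Module.Finite R N)
    (fun N _ _ hN => by
      haveI := hN
      obtain ⟨r, φ, hφ⟩ := Module.Finite.exists_fin' R N
      exact ⟨r, φ, hφ, inferInstance⟩) (R ⧸ I) inferInstance
  have hkill : ∀ b ∈ I, ∀ q : R ⧸ I, b • q = 0 := fun b hb q => by
    obtain ⟨x, rfl⟩ := Ideal.Quotient.mk_surjective q
    rw [Algebra.smul_def, Ideal.Quotient.algebraMap_eq, ← map_mul]
    exact Ideal.Quotient.eq_zero_iff_mem.2 (Ideal.mul_mem_right _ _ hb)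
  rcases i with _ | i
  · obtain ⟨e⟩ := CanonModLib.nonempty_ext_zero P H
    haveI := isArtinian_linearMap (R := R) (R ⧸ I) H
    refine e.symm.isFiniteLength (isFiniteLength_of_artinian (k := k) (R := R) ((R ⧸ I) →ₗ[R] H) fun a ha g => ?_)
    have := gen (R ⧸ I) ⊥ g (fun b hb φ => (Submodule.mem_bot R).2 (LinearMap.ext fun q => by
      rw [LinearMap.smul_apply, ← map_smul, hkill b hb q, map_zero]
      rfl)) a ha
    exact (Submodule.mem_bot R).1 this
  · obtain ⟨e⟩ := CanonModLib.nonempty_ext_succ P H i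
    haveI := (hP i).1
    haveI : Module.Finite R (CanonModLib.syz P i) := inferInstance
    haveI := isArtinian_linearMap (R := R) (CanonModLib.syz P i) H
    refine e.symm.isFiniteLength (isFiniteLength_of_artinian (k := k) (R := R)
      (_ ⧸ LinearMap.range (CanonModLib.res P H i)) fun a ha v => ?_)
    obtain ⟨g, rfl⟩ := Submodule.mkQ_surjective _ v
    rw [← map_smul]
    refine (Submodule.Quotient.mk_eq_zero _).2 (gen _ _ g (fun b hb φ => ?_) a ha)
    obtain ⟨s, hs⟩ := exists_homotopy P (b := b) (fun q => hkill b hb q) i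
    refine ⟨(φ ∘ₗ g) ∘ₗ CanonModLib.syzProj P i ∘ₗ s, LinearMap.ext fun x => ?_⟩
    show φ (g (CanonModLib.syzProj P i (s x.1))) = b • φ (g x)
    rw [show CanonModLib.syzProj P i (s x.1) = b • x from Subtype.ext (hs x.1 x.2), map_smul, map_smul]

end Main

end TopAssLib
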